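import Mathlib

/-!
The gcd over large primes `ℓ` of `∏_{a ≤ g} (ℓ^(2a) - 1)`.
-/

namespace Groth.Agent.GcdPow29

open Finset

/-- the product -/
def P (g ℓ : ℕ) : ℕ := ∏ a ∈ Icc 1 g, (ℓ ^ (2 * a) - 1)

/-- the gcd -/
def N (g : ℕ) : ℕ :=
  2 ^ (3 * g + padicValNat 2 g.factorial) *
    ∏ p ∈ (Icc 3 (2 * g + 1)).filter Nat.Prime,
      p ^ ((2 * g) / (p - 1) + ∑ i ∈ Icc 1 ((2 * g) / (p - 1)), padicValNat p i)

lemma factor_ne_zero {ℓ a : ℕ} (hℓ : ℓ.Prime) (ha : 1 ≤ a) : ℓ ^ (2 * a) - 1 ≠ 0 := by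
  have : 1 < ℓ ^ (2 * a) := Nat.one_lt_pow (by omega) hℓ.one_lt
  omega

lemma P_ne_zero {g ℓ : ℕ} (hℓ : ℓ.Prime) : P g ℓ ≠ 0 :=
  Finset.prod_ne_zero_iff.mpr fun a ha => factor_ne_zero hℓ (mem_Icc.mp ha).1

lemma N_ne_zero (g : ℕ) : N g ≠ 0 := by
  refine mul_ne_zero (pow_ne_zero _ two_ne_zero) (Finset.prod_ne_zero_iff.mpr fun p hp => ?_)
  exact pow_ne_zero _ (mem_filter.mp hp).2.ne_zero

lemma factorization_P {g ℓ p : ℕ} (hℓ : ℓ.Prime) (hp : p.Prime) :
    (P g ℓ).factorization p = ∑ a ∈ Icc 1 g, padicValNat p (ℓ ^ (2 * a) - 1) := by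
  rw [P, Nat.factorization_prod fun a ha => factor_ne_zero hℓ (mem_Icc.mp ha).1,
    Finsupp.finsetSum_apply]
  exact sum_congr rfl fun a _ => Nat.factorization_def _ hp

lemma factorization_N_two (g : ℕ) :
    (N g).factorization 2 = 3 * g + padicValNat 2 g.factorial := by
  have h0 : ∏ p ∈ (Icc 3 (2 * g + 1)).filter Nat.Prime,
      p ^ ((2 * g) / (p - 1) + ∑ i ∈ Icc 1 ((2 * g) / (p - 1)), padicValNat p i) ≠ 0 :=
    Finset.prod_ne_zero_iff.mpr fun p hp => pow_ne_zero _ (mem_filter.mp hp).2.ne_zero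
  rw [N, Nat.factorization_mul (pow_ne_zero _ two_ne_zero) h0, Finsupp.add_apply,
    Nat.factorization_prod fun p hp => pow_ne_zero _ (mem_filter.mp hp).2.ne_zero,
    Finsupp.finsetSum_apply, Finset.sum_eq_zero, add_zero, Nat.prime_two.factorization_pow,
    Finsupp.single_eq_same]
  intro p hp
  obtain ⟨h3, hp⟩ := mem_filter.mp hp
  rw [hp.factorization_pow, Finsupp.single_eq_of_ne]
  have := (mem_Icc.mp h3).1
  omega

lemma factorization_N_odd (g : ℕ) {p : ℕ} (hp : p.Prime) (h2 : p ≠ 2) :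
    (N g).factorization p =
      ∑ i ∈ Icc 1 ((2 * g) / (p - 1)), (1 + padicValNat p i) := by
  have h0 : ∏ q ∈ (Icc 3 (2 * g + 1)).filter Nat.Prime,
      q ^ ((2 * g) / (q - 1) + ∑ i ∈ Icc 1 ((2 * g) / (q - 1)), padicValNat q i) ≠ 0 :=
    Finset.prod_ne_zero_iff.mpr fun q hq => pow_ne_zero _ (mem_filter.mp hq).2.ne_zero
  have hp3 : 3 ≤ p := by have := hp.two_le; omega
  rw [N, Nat.factorization_mul (pow_ne_zero _ two_ne_zero) h0, Finsupp.add_apply,
    Nat.prime_two.factorization_pow, Finsupp.single_eq_of_ne (by omega), zero_add,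
    Nat.factorization_prod fun q hq => pow_ne_zero _ (mem_filter.mp hq).2.ne_zero,
    Finsupp.finsetSum_apply]
  rw [sum_add_distrib, sum_const, Nat.card_Icc, smul_eq_mul, mul_one, Nat.add_sub_cancel]
  by_cases hmem : p ≤ 2 * g + 1
  · rw [Finset.sum_eq_single_of_mem p (mem_filter.mpr ⟨mem_Icc.mpr ⟨hp3, hmem⟩, hp⟩)]
    · rw [hp.factorization_pow, Finsupp.single_eq_same]
    · intro q hq hne
      rw [(mem_filter.mp hq).2.factorization_pow, Finsupp.single_eq_of_ne (Ne.symm hne)]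
  · rw [Finset.sum_eq_zero, show 2 * g / (p - 1) = 0 from Nat.div_eq_of_lt (by omega)]
    · simp
    · intro q hq
      have := (mem_Icc.mp (mem_filter.mp hq).1).2
      rw [(mem_filter.mp hq).2.factorization_pow, Finsupp.single_eq_of_ne (by omega)]

lemma two_term {ℓ a : ℕ} (hℓ : ℓ.Prime) (h2 : ℓ ≠ 2) (ha : 1 ≤ a) :
    padicValNat 2 (ℓ ^ (2 * a) - 1) =
      padicValNat 2 (ℓ + 1) + padicValNat 2 (ℓ - 1) + padicValNat 2 a := by
  obtain ⟨k, hk⟩ := hℓ.odd_of_ne_two h2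
  have h := padicValNat.pow_two_sub_pow (x := ℓ) (y := 1) hℓ.one_lt (by omega) (by omega)
    (n := 2 * a) (by omega) (even_two_mul a)
  rw [one_pow] at h
  rw [padicValNat.mul two_ne_zero (by omega), padicValNat.self one_lt_two] at h
  omega

lemma sum_val_factorial (g : ℕ) :
    ∑ a ∈ Icc 1 g, padicValNat 2 a = padicValNat 2 g.factorial := by
  induction g with
  | zero => simp
  | succ g ih =>
    rw [Finset.sum_Icc_succ_top (by omega), ih, Nat.factorial_succ,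
      padicValNat.mul (by omega) g.factorial_ne_zero, add_comm]

lemma sum_term_odd (g : ℕ) {p : ℕ} (hp : p.Prime) (h2 : p ≠ 2) (F : ℕ → ℕ) :
    ∑ a ∈ (Icc 1 g).filter (fun a => (p - 1) ∣ 2 * a), F (2 * a) =
      ∑ i ∈ Icc 1 ((2 * g) / (p - 1)), F (i * (p - 1)) := by
  obtain ⟨h, hh⟩ := hp.odd_of_ne_two h2
  have hh0 : 0 < h := by have := hp.two_le; omega
  have he : p - 1 = 2 * h := by omega
  rw [he, Nat.mul_div_mul_left _ _ two_pos]
  refine (Finset.sum_nbij' (fun i => i * h) (fun a => a / h) ?_ ?_ ?_ ?_ ?_).symm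
  · intro i hi
    simp only [mem_coe, mem_Icc, mem_filter] at hi ⊢
    refine ⟨⟨Nat.one_le_iff_ne_zero.mpr (Nat.mul_ne_zero (by omega) (by omega)), ?_⟩, ⟨i, by ring⟩⟩
    exact (Nat.le_div_iff_mul_le hh0).mp hi.2
  · intro a ha
    simp only [mem_coe, mem_Icc, mem_filter] at ha ⊢
    obtain ⟨⟨ha1, hag⟩, hd⟩ := ha
    have hd' : h ∣ a := Nat.dvd_of_mul_dvd_mul_left two_pos hd
    exact ⟨Nat.div_pos (Nat.le_of_dvd (by omega) hd') hh0, Nat.div_le_div_right hag⟩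
  · intro i _; exact Nat.mul_div_cancel i hh0
  · intro a ha
    exact Nat.div_mul_cancel (Nat.dvd_of_mul_dvd_mul_left two_pos (mem_filter.mp ha).2)
  · intro i _; congr 1; ring

lemma odd_term {p ℓ i : ℕ} [Fact p.Prime] (h2 : p ≠ 2) (hℓ : ℓ.Prime) (hne : ℓ ≠ p) (hi : 1 ≤ i) :
    padicValNat p (ℓ ^ (i * (p - 1)) - 1) =
      padicValNat p (ℓ ^ (p - 1) - 1) + padicValNat p i ∧
    1 ≤ padicValNat p (ℓ ^ (p - 1) - 1) := by
  have hp : p.Prime := Fact.out
  have hdvd : ¬ p ∣ ℓ := fun h => hne ((Nat.prime_dvd_prime_iff_eq hp hℓ).mp h).symm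
  have hlt : 1 < ℓ ^ (p - 1) := Nat.one_lt_pow (by have := hp.two_le; omega) hℓ.one_lt
  have hF : p ∣ ℓ ^ (p - 1) - 1 := by
    refine (ZMod.natCast_eq_zero_iff _ _).mp ?_
    rw [Nat.cast_sub hlt.le, Nat.cast_pow, Nat.cast_one,
      ZMod.pow_card_sub_one_eq_one fun h => hdvd ((ZMod.natCast_eq_zero_iff _ _).mp h), sub_self]
  refine ⟨?_, one_le_padicValNat_of_dvd (by omega) hF⟩
  rw [mul_comm, pow_mul]
  have := padicValNat.pow_sub_pow (hp.odd_of_ne_two h2) (x := ℓ ^ (p - 1)) (y := 1) hlt hF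
    (fun h => hdvd (hp.dvd_of_dvd_pow h)) (n := i) (by omega)
  rwa [one_pow] at this

lemma le_factorization (g : ℕ) {p ℓ : ℕ} (hp : p.Prime) (hℓ : ℓ.Prime) (hbig : 2 * g + 1 < ℓ) :
    (N g).factorization p ≤ (P g ℓ).factorization p := by
  haveI : Fact p.Prime := ⟨hp⟩
  rw [factorization_P hℓ hp]
  rcases eq_or_ne p 2 with rfl | h2
  · rcases Nat.eq_zero_or_pos g with rfl | hg
    · rw [factorization_N_two]; simp
    rw [factorization_N_two, ← sum_val_factorial]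
    calc 3 * g + ∑ a ∈ Icc 1 g, padicValNat 2 a
        = ∑ a ∈ Icc 1 g, (3 + padicValNat 2 a) := by
          rw [sum_add_distrib, sum_const, Nat.card_Icc, smul_eq_mul]; simp [mul_comm]
      _ ≤ _ := sum_le_sum fun a ha => ?_
    have h2' : ℓ ≠ 2 := by omega
    rw [two_term hℓ h2' (mem_Icc.mp ha).1]
    refine add_le_add ?_ le_rfl
    rw [← padicValNat.mul (by omega) (by have := hℓ.two_le; omega)]
    obtain ⟨k, rfl⟩ := hℓ.odd_of_ne_two h2'
    refine (padicValNat_dvd_iff_le (Nat.mul_ne_zero (by omega) (by omega))).mp ?_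
    obtain ⟨j, hj⟩ := Nat.even_mul_succ_self k
    refine ⟨j, ?_⟩
    rw [show 2 * k + 1 - 1 = 2 * k by omega]
    calc (2 * k + 1 + 1) * (2 * k) = 4 * (k * (k + 1)) := by ring
      _ = 2 ^ 3 * j := by rw [hj]; ring
  · rw [factorization_N_odd g hp h2]
    calc ∑ i ∈ Icc 1 ((2 * g) / (p - 1)), (1 + padicValNat p i)
        ≤ ∑ i ∈ Icc 1 ((2 * g) / (p - 1)), padicValNat p (ℓ ^ (i * (p - 1)) - 1) := by
          refine sum_le_sum fun i hi => ?_
          have hle : p - 1 ≤ 2 * g := by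
            by_contra hcon
            rw [Nat.div_eq_of_lt (by omega)] at hi
            simp at hi
          obtain ⟨e, h1⟩ := odd_term h2 hℓ (by omega) (mem_Icc.mp hi).1
          omega
      _ = ∑ a ∈ (Icc 1 g).filter (fun a => (p - 1) ∣ 2 * a),
            padicValNat p (ℓ ^ (2 * a) - 1) :=
          (sum_term_odd g hp h2 fun n => padicValNat p (ℓ ^ n - 1)).symm
      _ ≤ _ := sum_le_sum_of_subset (filter_subset _ _)

lemma exists_prime_eq (g B : ℕ) {p : ℕ} (hp : p.Prime) :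
    ∃ ℓ : ℕ, ℓ.Prime ∧ B < ℓ ∧ (P g ℓ).factorization p = (N g).factorization p := by
  haveI : Fact p.Prime := ⟨hp⟩
  rcases eq_or_ne p 2 with rfl | h2
  · obtain ⟨ℓ, hB, hℓ, heq⟩ := Nat.forall_exists_prime_gt_and_eq_mod (a := (3 : ZMod 8))
      (IsUnit.of_mul_eq_one (b := 3) (by decide)) (max B 3)
    refine ⟨ℓ, hℓ, lt_of_le_of_lt (le_max_left _ _) hB, ?_⟩
    have hgt : 3 < ℓ := lt_of_le_of_lt (le_max_right _ _) hB
    have hmod : ℓ % 8 = 3 := by
      have := congrArg ZMod.val heq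
      rwa [ZMod.val_natCast] at this
    rw [factorization_P hℓ hp, factorization_N_two, ← sum_val_factorial]
    calc ∑ a ∈ Icc 1 g, padicValNat 2 (ℓ ^ (2 * a) - 1)
        = ∑ a ∈ Icc 1 g, (3 + padicValNat 2 a) := sum_congr rfl fun a ha => ?_
      _ = _ := by rw [sum_add_distrib, sum_const, Nat.card_Icc, smul_eq_mul]; simp [mul_comm]
    rw [two_term hℓ (by omega) (mem_Icc.mp ha).1]
    have e1 : padicValNat 2 (ℓ + 1) = 2 := by
      rw [show ℓ + 1 = 2 ^ 2 * ((ℓ + 1) / 4) by omega, padicValNat.mul (by norm_num) (by omega),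
        padicValNat.prime_pow, padicValNat.eq_zero_of_not_dvd (by omega)]
    have e2 : padicValNat 2 (ℓ - 1) = 1 := by
      rw [show ℓ - 1 = 2 * ((ℓ - 1) / 2) by omega, padicValNat.mul (by norm_num) (by omega),
        padicValNat.self one_lt_two, padicValNat.eq_zero_of_not_dvd (by omega)]
    omega
  · haveI : NeZero (p ^ 2) := ⟨pow_ne_zero _ hp.ne_zero⟩
    haveI := ZMod.isCyclic_units_of_prime_pow p hp h2 2
    obtain ⟨u, hu⟩ := IsCyclic.exists_generator (α := (ZMod (p ^ 2))ˣ)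
    obtain ⟨ℓ, hB, hℓ, heq⟩ := Nat.forall_exists_prime_gt_and_eq_mod (a := (u : ZMod (p ^ 2)))
      u.isUnit (max B p)
    refine ⟨ℓ, hℓ, lt_of_le_of_lt (le_max_left _ _) hB, ?_⟩
    have hne : ℓ ≠ p := (lt_of_le_of_lt (le_max_right _ _) hB).ne'
    have hsq : padicValNat p (ℓ ^ (p - 1) - 1) ≤ 1 := by
      by_contra hcon
      have hd : p ^ 2 ∣ ℓ ^ (p - 1) - 1 :=
        dvd_trans (pow_dvd_pow p (by omega)) pow_padicValNat_dvd
      rw [← ZMod.natCast_eq_zero_iff,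
        Nat.cast_sub (Nat.one_le_pow _ _ hℓ.pos), Nat.cast_pow, Nat.cast_one, heq, sub_eq_zero,
        ← Units.val_pow_eq_pow_val, Units.val_eq_one] at hd
      have hdd := orderOf_dvd_of_pow_eq_one hd
      rw [orderOf_eq_card_of_forall_mem_zpowers hu, Nat.card_eq_fintype_card,
        ZMod.card_units_eq_totient, Nat.totient_prime_pow hp two_pos] at hdd
      have hle := Nat.le_of_dvd (by have := hp.two_le; omega) hdd
      rw [show 2 - 1 = 1 from rfl, pow_one] at hle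
      have : 2 * (p - 1) ≤ p * (p - 1) := Nat.mul_le_mul_right _ hp.two_le
      have := hp.two_le
      omega
    have hzero : ∀ a, ¬ (p - 1) ∣ 2 * a → padicValNat p (ℓ ^ (2 * a) - 1) = 0 := fun a ha => by
      refine padicValNat.eq_zero_of_not_dvd fun hd => ha ?_
      rw [← ZMod.natCast_eq_zero_iff, Nat.cast_sub (Nat.one_le_pow _ _ hℓ.pos), Nat.cast_pow,
        Nat.cast_one, sub_eq_zero] at hd
      have hpp : p ∣ p ^ 2 := dvd_pow_self p two_ne_zero
      have hv : ((ZMod.unitsMap hpp u : (ZMod p)ˣ) : ZMod p) = (ℓ : ZMod p) := by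
        rw [ZMod.unitsMap_val, ← heq, ZMod.cast_natCast hpp]
      rw [← hv, ← Units.val_pow_eq_pow_val, Units.val_eq_one] at hd
      have hgen : ∀ x : (ZMod p)ˣ, x ∈ Subgroup.zpowers (ZMod.unitsMap hpp u) := fun x => by
        obtain ⟨y, rfl⟩ := ZMod.unitsMap_surjective hpp x
        obtain ⟨k, hk⟩ := hu y
        exact ⟨k, by simp only at hk ⊢; rw [← hk, map_zpow]⟩
      have hdd := orderOf_dvd_of_pow_eq_one hd
      rwa [orderOf_eq_card_of_forall_mem_zpowers hgen, Nat.card_eq_fintype_card, ZMod.card_units]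
        at hdd
    rw [factorization_P hℓ hp, factorization_N_odd g hp h2,
      ← Finset.sum_filter_add_sum_filter_not _ (fun a => (p - 1) ∣ 2 * a),
      Finset.sum_eq_zero (s := (Icc 1 g).filter fun a => ¬ (p - 1) ∣ 2 * a)
        (fun a ha => hzero a (mem_filter.mp ha).2), add_zero,
      sum_term_odd g hp h2 fun n => padicValNat p (ℓ ^ n - 1)]
    refine sum_congr rfl fun i hi => ?_
    obtain ⟨e, h1⟩ := odd_term h2 hℓ hne (mem_Icc.mp hi).1
    omega

theorem forall_dvd_iff (g B d : ℕ) (hB : 2 * g + 1 ≤ B) :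
    (∀ ℓ : ℕ, ℓ.Prime → B < ℓ → d ∣ P g ℓ) ↔ d ∣ N g := by
  constructor
  · intro h
    obtain ⟨ℓ₀, hℓ₀, hp₀⟩ := Nat.exists_infinite_primes (B + 1)
    have hd : d ≠ 0 := fun h0 =>
      P_ne_zero hp₀ (Nat.eq_zero_of_zero_dvd (h0 ▸ h ℓ₀ hp₀ hℓ₀))
    rw [← Nat.factorization_le_iff_dvd hd (N_ne_zero g)]
    intro p
    by_cases hp : p.Prime
    · obtain ⟨ℓ, hℓ, hBl, e⟩ := exists_prime_eq g B hp
      rw [← e]
      exact (Nat.factorization_le_iff_dvd hd (P_ne_zero hℓ)).mpr (h ℓ hℓ hBl) p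
    · simp [Nat.factorization_eq_zero_of_not_prime _ hp]
  · intro h ℓ hℓ hBl
    refine h.trans ((Nat.factorization_le_iff_dvd (N_ne_zero g) (P_ne_zero hℓ)).mp fun p => ?_)
    by_cases hp : p.Prime
    · exact le_factorization g hp hℓ (by omega)
    · simp [Nat.factorization_eq_zero_of_not_prime _ hp]

end Groth.Agent.GcdPow29
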